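import Cfsg.Agent.J1Char.Letters
import Cfsg.Agent.J1Order.Main
import Cfsg.Agent.StdClosure.Semisimple
import Cfsg.Agent.SmallSimple.SixThousand.Tools
import Cfsg.Agent.Coset.J1.Matrix
import Mathlib.GroupTheory.SpecificGroups.Cyclic
import Mathlib.GroupTheory.Subgroup.Centralizer
import Mathlib.GroupTheory.PGroup

/-!
A simple group with an involution centraliser `C₂ × A₅` is the group of Janko of order `175560`.
-/

set_option autoImplicit false
set_option maxRecDepth 100000
set_option linter.style.haveILetI false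
set_option linter.unusedSectionVars false

namespace CfsgLib.J1Char

open CfsgLib.Coset Subgroup
open CfsgLib.J1Local (M)

universe u

theorem pow_thirty : ∀ a : M, a ^ 30 = 1 := by decide +kernel

theorem cent_mx_four : ∀ a : M, a * mx = mx * a → a ^ 4 = 1 → a = 1 ∨ a = mt := by decide +kernel

theorem card_cent_mx : Fintype.card {a : M // a * mx = mx * a} = 10 := by decide +kernel

theorem mv_moves_mx : mv * mx ≠ mx * mv ∧ mt * mx = mx * mt ∧ mt ≠ mv ∧ mt * mv = mv * mt ∧
    mv⁻¹ = mv ∧ mt⁻¹ = mt := by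
  decide +kernel

namespace Amal

variable {G : Type u} [Group G] [Finite G] (E : Amal G)

theorem exists_outside [IsSimpleGroup G] (hG : Nat.card G = 175560) :
    ¬ centralizer ({E.phi mx} : Set G) ≤ E.phi.range := by
  intro hle
  haveI : Fact (Nat.Prime 5) := ⟨by norm_num⟩
  set X := E.phi mx
  set H := zpowers X with hH
  have hXo : orderOf X = 5 := orderOf_eq_prime
    (by rw [← map_pow, orderOf_mx.1, map_one])
    (fun h => orderOf_mx.2 (E.inj (h.trans E.phi.map_one.symm)))
  have hcH : Nat.card H = 5 := by rw [hH, Nat.card_zpowers, hXo]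
  have hC : Nat.card (centralizer (H : Set G)) = 10 := by
    have e : ∀ g : G, g ∈ centralizer (H : Set G) ↔ g * X = X * g := fun g => by
      rw [hH, Subgroup.mem_centralizer_iff]
      refine ⟨fun h => (h X (mem_zpowers X)).symm, fun h y hy => ?_⟩
      obtain ⟨k, rfl⟩ := mem_zpowers_iff.1 hy
      exact (show Commute g X from h).zpow_right k |>.eq.symm
    rw [← card_cent_mx, ← Nat.card_eq_fintype_card]
    refine (Nat.card_eq_of_bijective
      (fun a : {a : M // a * mx = mx * a} => (⟨E.phi a.1, (e _).2 (by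
        rw [← map_mul, ← map_mul, a.2])⟩ : centralizer (H : Set G))) ⟨?_, ?_⟩).symm
    · exact fun a b h => Subtype.ext (E.inj (congrArg Subtype.val h))
    · rintro ⟨g, hg⟩
      obtain ⟨a, rfl⟩ := hle (mem_centralizer_singleton_iff.2 ((e g).1 hg))
      exact ⟨⟨a, E.inj (by rw [map_mul, map_mul]; exact (e _).1 hg)⟩, rfl⟩
  let P : Sylow 5 G := Sylow.ofCard H (by
    rw [hcH, hG, show (175560 : ℕ) = 5 ^ 1 * 35112 from rfl,
      Nat.factorization_mul (by norm_num) (by norm_num),
      Finsupp.add_apply, Nat.Prime.factorization_pow (by norm_num), Finsupp.single_eq_same,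
      Nat.factorization_eq_zero_of_not_dvd (by norm_num : ¬ 5 ∣ 35112)]
    norm_num)
  set N := normalizer (H : Set G)
  have hker : (centralizer (H : Set G)).subgroupOf N = (normalizerMonoidHom H).ker :=
    (normalizerMonoidHom_ker H).symm
  have hN1 : Nat.card N = 10 * Nat.card (normalizerMonoidHom H).range := by
    have h := Subgroup.card_mul_index (normalizerMonoidHom H).ker
    rw [Subgroup.index_ker] at h
    rw [← h, ← hker, Nat.card_congr (Subgroup.subgroupOfEquivOfLe
      (Subgroup.centralizer_le_normalizer (H : Set G))).toEquiv, hC]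
  haveI : IsCyclic H := isCyclic_of_prime_card hcH
  have hN2 : Nat.card (normalizerMonoidHom H).range ∣ 4 := by
    have h := Subgroup.card_subgroup_dvd_card (normalizerMonoidHom H).range
    rwa [IsCyclic.card_mulAut, hcH, Nat.totient_prime (by norm_num)] at h
  have hN3 : 20 ∣ Nat.card N := by
    have hv : E.phi mv ∈ N := by
      refine Subgroup.mem_normalizer_fintype fun y hy => ?_
      rw [SetLike.mem_coe, hH] at hy ⊢
      obtain ⟨k, rfl⟩ := mem_zpowers_iff.1 hy
      have e : E.phi mv * X * (E.phi mv)⁻¹ = X⁻¹ := by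
        rw [← map_inv, ← map_mul, ← map_mul, mv_moves_mx.2.2.2.2.1, mv_inverts_mx, map_inv]
      rw [← conj_zpow, e]
      exact zpow_mem (inv_mem (mem_zpowers X)) k
    have hsq : E.phi mv ∉ centralizer (H : Set G) := fun h => mv_moves_mx.1 (E.inj (by
      rw [map_mul, map_mul]
      exact ((Subgroup.mem_centralizer_iff.1 h) X (mem_zpowers X)).symm))
    have h2 : 2 ∣ Nat.card (normalizerMonoidHom H).range := by
      have ho : orderOf (normalizerMonoidHom H ⟨E.phi mv, hv⟩) = 2 := by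
        refine orderOf_eq_prime ?_ fun h => hsq ?_
        · rw [← map_pow, show (⟨E.phi mv, hv⟩ : N) ^ 2 = 1 from Subtype.ext (by
            show E.phi mv ^ 2 = 1
            rw [← map_pow, pow_two, mv_sq.1, map_one]), map_one]
        · have h' : (⟨E.phi mv, hv⟩ : N) ∈ (centralizer (H : Set G)).subgroupOf N := by
            rw [hker]; exact h
          exact h'
      rw [← ho]
      exact Subgroup.orderOf_dvd_natCard _ (MonoidHom.mem_range.2 ⟨_, rfl⟩)
    rw [hN1]
    exact Nat.mul_dvd_mul_left 10 h2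
  have hn : Nat.card (Sylow 5 G) * Nat.card N = 175560 := by
    rw [P.card_eq_index_normalizer]
    show N.index * Nat.card N = _
    rw [Subgroup.index_mul_card, hG]
  have hmod := card_sylow_modEq_one 5 G
  rw [hN1] at hn hN3
  have hr := Nat.le_of_dvd (by norm_num) hN2
  interval_cases h : Nat.card (normalizerMonoidHom H).range <;> simp_all [Nat.ModEq] <;> omega

theorem exists_inverted [IsSimpleGroup G] (hG : Nat.card G = 175560) :
    ∃ i : ℕ, (i = 1 ∨ i = 3) ∧ ∃ y : G, Odd (orderOf y) ∧ y ≠ 1 ∧ y * E.phi mx = E.phi mx * y ∧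
      y * (E.s ^ i * E.phi mt * (E.s ^ i)⁻¹) = (E.s ^ i * E.phi mt * (E.s ^ i)⁻¹) * y ∧
      E.phi mt * y * E.phi mt = y⁻¹ := by
  haveI : Fact (Nat.Prime 2) := ⟨Nat.prime_two⟩
  set X := E.phi mx with hX
  set T := E.phi mt with hT
  set V := E.phi mv with hV
  set K := centralizer ({X} : Set G) with hK
  have hTT : T * T = 1 := by rw [hT, ← map_mul, mt_sq.1, map_one]
  have hVV : V * V = 1 := by rw [hV, ← map_mul, mv_sq.1, map_one]
  have hTV : T * V = V * T := by rw [hT, hV, ← map_mul, ← map_mul, mv_moves_mx.2.2.2.1]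
  have hTi : T⁻¹ = T := inv_eq_of_mul_eq_one_right hTT
  have hVi : V⁻¹ = V := inv_eq_of_mul_eq_one_right hVV
  have hTK : T ∈ K := mem_centralizer_singleton_iff.2 (by
    rw [hT, hX, ← map_mul, ← map_mul, mv_moves_mx.2.1])
  have hTo : orderOf (⟨T, hTK⟩ : K) = 2 := by
    refine orderOf_eq_prime (Subtype.ext ?_) fun h => mt_sq.2 (E.inj ?_)
    · show T ^ 2 = 1
      rw [pow_two, hTT]
    · rw [map_one]; exact congrArg Subtype.val h
  obtain ⟨m, hm, hmo⟩ : ∃ m, Nat.card K = 2 * m ∧ m % 2 = 1 := by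
    have h2 : 2 ∣ Nat.card K := hTo ▸ orderOf_dvd_natCard _
    refine ⟨Nat.card K / 2, (Nat.mul_div_cancel' h2).symm, ?_⟩
    by_contra h
    have h4 : 2 ^ (1 + 1) ∣ Nat.card K := by norm_num; omega
    obtain ⟨R, hR, hRT⟩ := Sylow.exists_subgroup_card_pow_succ h4
      (H := zpowers (⟨T, hTK⟩ : K)) (by rw [Nat.card_zpowers, hTo, pow_one])
    haveI : IsMulCommutative R :=
      IsPGroup.isMulCommutative_of_card_eq_prime_sq (p := 2) (by rw [hR])
    have hR2 : ∀ r ∈ R, r = 1 ∨ r = (⟨T, hTK⟩ : K) := fun r hr => by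
      have hc := congrArg Subtype.val ((IsMulCommutative.is_comm (M := R)).comm ⟨r, hr⟩
        ⟨_, hRT (mem_zpowers _)⟩)
      obtain ⟨a, ha⟩ := E.toHyp.mem_cent.2 (congrArg Subtype.val hc)
      have h4' : r ^ 4 = 1 := by
        have h := congrArg Subtype.val (pow_card_eq_one' (G := R) (x := ⟨r, hr⟩))
        rw [hR] at h
        simpa using h
      rcases cent_mx_four a (E.inj (by
          rw [map_mul, map_mul, ha]; exact mem_centralizer_singleton_iff.1 r.2))
        (E.inj (by rw [map_pow, ha, map_one]; exact congrArg Subtype.val h4')) with h | h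
      · exact Or.inl (Subtype.ext (by rw [← ha, h, map_one]; rfl))
      · exact Or.inr (Subtype.ext (by rw [← ha, h]))
    have hle : R ≤ zpowers (⟨T, hTK⟩ : K) := fun r hr => by
      rcases hR2 r hr with rfl | rfl
      · exact one_mem _
      · exact mem_zpowers _
    have := Subgroup.card_le_of_le hle
    rw [hR, Nat.card_zpowers, hTo] at this
    norm_num at this
  obtain ⟨Y, hYn, hY⟩ := SixThousand.exists_index_two hm hmo
  have hYc : Odd (Nat.card Y) := by
    have h := Subgroup.card_mul_index Y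
    rw [hY, hm] at h
    rw [Nat.odd_iff]; omega
  have hmemY : ∀ g : K, g ∈ Y ↔ Odd (orderOf g) := fun g => by
    refine ⟨fun hg => hYc.of_dvd_nat (Subgroup.orderOf_dvd_natCard _ hg), fun hg => ?_⟩
    obtain ⟨r, hr, hrr⟩ := StdClosure.exists_sqrt hg
    exact hrr ▸ pow_two r ▸ Subgroup.sq_mem_of_index_two hY r
  set W := normalizer (zpowers X : Set G) with hW
  have hKW : K ≤ W := fun g hg => by
    rw [hW]
    refine Subgroup.centralizer_le_normalizer _ (Subgroup.mem_centralizer_iff.2 fun y hy => ?_)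
    obtain ⟨k, rfl⟩ := mem_zpowers_iff.1 hy
    exact ((show Commute g X from mem_centralizer_singleton_iff.1 hg).zpow_right k).eq.symm
  have hconjK : ∀ g ∈ W, ∀ y ∈ K, g * y * g⁻¹ ∈ K := fun g hg y hy => by
    obtain ⟨k, hk⟩ := mem_zpowers_iff.1
      ((Subgroup.mem_normalizer_iff.1 (inv_mem hg) X).1 (mem_zpowers X))
    have hc : Commute y (g⁻¹ * X * g⁻¹⁻¹) :=
      hk ▸ (show Commute y X from mem_centralizer_singleton_iff.1 hy).zpow_right k
    rw [inv_inv] at hc
    refine mem_centralizer_singleton_iff.2 ?_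
    calc g * y * g⁻¹ * X = g * (y * (g⁻¹ * X * g)) * g⁻¹ := by group
      _ = g * ((g⁻¹ * X * g) * y) * g⁻¹ := by rw [hc.eq]
      _ = X * (g * y * g⁻¹) := by group
  set O : Subgroup W := (Y.map K.subtype).subgroupOf W with hO
  have hmemO : ∀ w : W, w ∈ O ↔ (w : G) ∈ K ∧ Odd (orderOf (w : G)) := fun w => by
    rw [hO, Subgroup.mem_subgroupOf, Subgroup.mem_map]
    constructor
    · rintro ⟨g, hg, he⟩
      exact ⟨he ▸ g.2, he ▸ (Subgroup.orderOf_coe g).symm ▸ (hmemY g).1 hg⟩
    · rintro ⟨h1, h2⟩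
      exact ⟨⟨w, h1⟩, (hmemY _).2 (Subgroup.orderOf_coe (⟨(w : G), h1⟩ : K) ▸ h2), rfl⟩
  haveI : O.Normal := ⟨fun n hn g => by
    obtain ⟨h1, h2⟩ := (hmemO n).1 hn
    refine (hmemO _).2 ⟨hconjK g g.2 n h1, ?_⟩
    have : orderOf ((g * n * g⁻¹ : W) : G) = orderOf (n : G) := by
      show orderOf (MulAut.conj (g : G) (n : G)) = _
      exact orderOf_injective (MulAut.conj (g : G)).toMonoidHom (MulEquiv.injective _) _
    rw [this]; exact h2⟩
  have hOodd : Odd (Nat.card O) := by
    rw [hO, Nat.card_congr (Subgroup.subgroupOfEquivOfLe (by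
      rintro _ ⟨g, -, rfl⟩; exact hKW g.2)).toEquiv,
      Subgroup.card_map_of_injective K.subtype_injective]
    exact hYc
  have hVW : V ∈ W := by
    refine Subgroup.mem_normalizer_fintype fun y hy => ?_
    obtain ⟨k, rfl⟩ := mem_zpowers_iff.1 hy
    have e : V * X * V⁻¹ = X⁻¹ := by
      rw [hV, hX, ← map_inv, ← map_mul, ← map_mul, mv_moves_mx.2.2.2.2.1, mv_inverts_mx, map_inv]
    rw [← conj_zpow, e]
    exact zpow_mem (inv_mem (mem_zpowers X)) k
  have hTW : T ∈ W := hKW hTK
  obtain ⟨x, hx, hxV, hxT⟩ : ∃ x : W, x ∈ O ∧ (V * (x : G) = x * V ∨ T * V * (x : G) = x * (T * V)) ∧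
      T * (x : G) ≠ x * T := by
    by_contra hall
    push Not at hall
    have hfix := StdClosure.four_fixed hOodd (a := (⟨T, hTW⟩ : W)) (t := ⟨V, hVW⟩)
      (Subtype.ext hTT) (Subtype.ext hVV) (Subtype.ext hTV)
      (fun x hx h => Subtype.ext (hall x hx (Or.inl (congrArg Subtype.val h))))
      (fun x hx h => Subtype.ext (hall x hx (Or.inr (congrArg Subtype.val h))))
    refine E.exists_outside hG fun g hg => E.toHyp.mem_cent.2 ?_
    have hodd : ∀ g : K, g ∈ Y → (g : G) * T = T * g := fun g hg =>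
      (congrArg Subtype.val (hfix ⟨g, hKW g.2⟩ ((hmemO _).2
        ⟨g.2, (Subgroup.orderOf_coe g).symm ▸ (hmemY g).1 hg⟩))).symm
    by_cases hgY : (⟨g, hg⟩ : K) ∈ Y
    · exact hodd _ hgY
    · have hTY : (⟨T, hTK⟩ : K) ∉ Y := fun h => by
        have := (hmemY _).1 h
        rw [hTo] at this
        exact absurd this (by decide)
      have h := hodd ((⟨T, hTK⟩ : K) * ⟨g, hg⟩)
        ((Subgroup.mul_mem_iff_of_index_two hY).2 (iff_of_false hTY hgY))
      have h' : T * g * T = T * (T * g) := h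
      rw [← mul_assoc T T g, hTT, one_mul] at h'
      calc g * T = T * (T * g * T) := by rw [← mul_assoc, ← mul_assoc, hTT, one_mul]
        _ = T * g := by rw [h']
  obtain ⟨hxK, hxo⟩ := (hmemO x).1 hx
  set y := (x : G)⁻¹ * T * x * T with hy
  have hyO : (x⁻¹ * ⟨T, hTW⟩ * x * ⟨T, hTW⟩ : W) ∈ O := by
    have h := mul_mem (inv_mem hx) ((inferInstance : O.Normal).conj_mem x hx ⟨T, hTW⟩)
    rwa [show (⟨T, hTW⟩ : W)⁻¹ = ⟨T, hTW⟩ from Subtype.ext hTi,
      show x⁻¹ * (⟨T, hTW⟩ * x * ⟨T, hTW⟩) = x⁻¹ * ⟨T, hTW⟩ * x * ⟨T, hTW⟩ by group] at h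
  obtain ⟨hyK, hyo⟩ := (hmemO _).1 hyO
  change y ∈ K at hyK
  change Odd (orderOf y) at hyo
  have hy1 : y ≠ 1 := fun h => hxT (by
    calc T * (x : G) = x * ((x : G)⁻¹ * T * x * T) * T⁻¹ := by group
      _ = _ := by rw [← hy, h, mul_one, hTi])
  have hinv : T * y * T = y⁻¹ := by
    calc T * y * T = T * (x : G)⁻¹ * T * x * (T * T) := by rw [hy]; group
      _ = T⁻¹ * (x : G)⁻¹ * T⁻¹ * x := by rw [hTT, hTi, mul_one]
      _ = y⁻¹ := by rw [hy]; group
  have hcomm : ∀ U : G, U * T = T * U → U * x = x * U → y * U = U * y := fun U h1 h2 => by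
    have c1 : Commute U T := h1
    have c2 : Commute U (x : G) := h2
    exact (((c2.inv_right.mul_right c1).mul_right c2).mul_right c1).eq.symm
  rcases hxV with h | h
  · refine ⟨1, Or.inl rfl, y, hyo, hy1, mem_centralizer_singleton_iff.1 hyK, ?_, hinv⟩
    rw [pow_one, hT, E.s_t]
    exact hcomm V hTV.symm h
  · refine ⟨3, Or.inr rfl, y, hyo, hy1, mem_centralizer_singleton_iff.1 hyK, ?_, hinv⟩
    rw [hT, E.s_three_mt, map_mul]
    exact hcomm (T * V) (by rw [mul_assoc, ← hTV]) h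

theorem exists_case [IsSimpleGroup G] (hG : Nat.card G = 175560) :
    ∃ k < 8, ∀ w ∈ relsK k, ev E.letters w = 1 := by
  obtain ⟨i, hi, y, hyo, hy1, hyX, hyc, hyi⟩ := E.exists_inverted hG
  set σ := E.s ^ i with hσ
  obtain ⟨a, ha⟩ := (E.toHyp.mem_cent (g := σ⁻¹ * y * σ)).2 (by
    calc σ⁻¹ * y * σ * E.phi mt = σ⁻¹ * (y * (σ * E.phi mt * σ⁻¹)) * σ := by group
      _ = σ⁻¹ * ((σ * E.phi mt * σ⁻¹) * y) * σ := by rw [hyc]
      _ = E.phi mt * (σ⁻¹ * y * σ) := by group)
  have hy : y = σ * E.phi a * σ⁻¹ := by rw [ha]; group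
  have hao : orderOf a = orderOf y := by
    rw [← orderOf_injective E.phi E.inj, hy, ← MulAut.conj_apply]
    exact (orderOf_injective (MulAut.conj σ).toMonoidHom (MulEquiv.injective _) _).symm
  have ha15 : a ^ 15 = 1 := by
    refine orderOf_dvd_iff_pow_eq_one.1 (Nat.Coprime.dvd_of_dvd_mul_left
      (Nat.coprime_comm.1 (hao ▸ hyo).coprime_two_left) ?_)
    exact orderOf_dvd_iff_pow_eq_one.2 (pow_thirty a)
  have hi' : i ∈ [1, 3] := by rcases hi with rfl | rfl <;> decide
  have hmc : σ * E.phi (mc i) * σ⁻¹ = E.phi mt := by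
    rcases hi with rfl | rfl
    · rw [hσ, pow_one]; exact E.s_one_mc
    · exact E.s_three_mc
  have hainv : mc i * a * mc i = a⁻¹ := E.inj (by
    rw [map_mul, map_mul, map_inv]
    calc E.phi (mc i) * E.phi a * E.phi (mc i)
        = σ⁻¹ * ((σ * E.phi (mc i) * σ⁻¹) * (σ * E.phi a * σ⁻¹) * (σ * E.phi (mc i) * σ⁻¹)) * σ := by
          group
      _ = σ⁻¹ * y⁻¹ * σ := by rw [hmc, ← hy, hyi]
      _ = _ := by rw [hy]; group)
  have ha1 : a ≠ 1 := fun h => hy1 (by rw [hy, h, map_one]; group)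
  obtain ⟨k, hk, hki, j, -, hj⟩ := cand_spec a ha15 ha1 i hi' hainv
  refine ⟨k, List.mem_range.1 hk, E.rels_of (List.mem_range.1 hk) hki ?_⟩
  rw [← hσ, ← hj, map_pow, ← conj_pow, ← hy]
  exact ((show Commute y (E.phi mx) from hyX).pow_left j).eq

include E in
theorem equiv_J1 [IsSimpleGroup G] (hG : Nat.card G = 175560) : Nonempty (G ≃* J1.P) := by
  obtain ⟨k, hk, hrel⟩ := E.exists_case hG
  have hk5 : k = 5 := by
    by_contra hk5
    have hle : Hc E.letters ≤ E.phi.range := by
      rw [Hc, Subgroup.closure_le]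
      intro g hg
      simp only [letters, List.take_succ_cons, List.take_zero, Set.mem_setOf_eq, List.mem_cons,
        List.not_mem_nil, or_false] at hg
      rcases hg with rfl | rfl | rfl | rfl | rfl
      exacts [⟨mt, rfl⟩, ⟨mv, rfl⟩, ⟨mu, rfl⟩, ⟨mz, rfl⟩, ⟨mz⁻¹, map_inv _ _⟩]
    have hs : E.s ∈ E.phi.range :=
      hle (closure_le_Hc hk hk5 E.len_letters hrel (Subgroup.subset_closure (by simp [letters])))
    refine mv_moves_mx.2.2.1 (E.inj ?_)
    rw [← E.s_t, E.toHyp.mem_cent.1 hs, mul_inv_cancel_right]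
  subst hk5
  let f : Q →* G := numHom (L := E.letters) E.len_letters hrel
  have hker : f.ker = ⊥ := by
    haveI := isSimple_Q
    rcases f.normal_ker.eq_bot_or_eq_top with h | h
    · exact h
    · exfalso
      refine mt_sq.2 (E.inj ?_)
      rw [map_one]
      have := MonoidHom.mem_ker.1 (h ▸ Subgroup.mem_top (fl LQ 0) : fl LQ 0 ∈ f.ker)
      rw [show f (fl LQ 0) = fl E.letters 0 from numHom_fl _ _ 0] at this
      exact this
  haveI := card_Q.1
  have hb : Function.Bijective f :=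
    (Nat.bijective_iff_injective_and_card f).2
      ⟨(MonoidHom.ker_eq_bot_iff f).1 hker, by rw [card_Q_eq, hG]⟩
  exact ⟨(MulEquiv.ofBijective f hb).symm.trans equivP⟩

end Amal

/-- The recognition by the centraliser. -/
theorem iso_J1 {G : Type u} [Group G] [Finite G] [IsSimpleGroup G] {t : G} (ht : orderOf t = 2)
    (e : Subgroup.centralizer ({t} : Set G) ≃* M)
    (hP : ∃ P : Sylow 2 G, t ∈ P ∧ ∀ x ∈ P, x * t = t * x) : Cfsg.Spor.IsoJ1 G := by
  classical
  haveI := Fintype.ofFinite G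
  have hG := J1Order.card_eq e ht hP
  obtain ⟨D, -⟩ := exists_hyp (fun h => by rw [h, orderOf_one] at ht; omega) e
    (by rw [hG]; norm_num)
  obtain ⟨E, -⟩ := D.exists_amal
  exact (E.equiv_J1 hG).map fun f => f.trans J1.equivSpor

end CfsgLib.J1Char
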