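import Cfsg.Agent.J1Char.Model
import Mathlib.GroupTheory.Focal
import Mathlib.GroupTheory.Sylow

/-!
The normaliser of a Sylow 2-subgroup in a simple group with an involution centraliser `C₂ × A₅`.
-/

set_option autoImplicit false
set_option linter.style.haveILetI false
set_option linter.unusedSectionVars false

namespace CfsgLib.J1Char

open CfsgLib.Coset Subgroup
open CfsgLib.J1Local (M)
open scoped commutatorElement

universe u

/-- An involution with centraliser `C₂ × A₅` in a group of order not divisible by `16`. -/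
structure Hyp (G : Type u) [Group G] where
  /-- The centraliser. -/
  phi : M →* G
  inj : Function.Injective phi
  cent : Subgroup.centralizer ({phi mt} : Set G) = phi.range
  h16 : ¬ 16 ∣ Nat.card G

/-- The centraliser together with an element of order seven of the normaliser. -/
structure Amal (G : Type u) [Group G] extends Hyp G where
  /-- The element of order seven. -/
  s : G
  s_pow : s ^ 7 = 1
  s_t : s * phi mt * s⁻¹ = phi mv
  z_s : phi mz * s * (phi mz)⁻¹ = s * s

theorem exists_hyp {G : Type u} [Group G] [Finite G] [IsSimpleGroup G] {t : G}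
    (ht : t ≠ 1) (e : Subgroup.centralizer ({t} : Set G) ≃* M) (h16 : ¬ 16 ∣ Nat.card G) :
    ∃ D : Hyp G, D.phi mt = t := by
  let φ : M →* G := (Subgroup.centralizer ({t} : Set G)).subtype.comp e.symm.toMonoidHom
  have hinj : Function.Injective φ := Subtype.val_injective.comp e.symm.injective
  let tC : Subgroup.centralizer ({t} : Set G) := ⟨t, mem_centralizer_singleton_iff.2 rfl⟩
  have hr : φ.range = Subgroup.centralizer ({t} : Set G) := by
    refine le_antisymm ?_ fun g hg => ⟨e ⟨g, hg⟩, by simp [φ]⟩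
    rintro _ ⟨a, rfl⟩
    exact (e.symm a).2
  have hmt : φ mt = t := by
    rcases center_eq (e tC) (fun b _ => by
      apply e.symm.injective
      rw [map_mul, map_mul, e.symm_apply_apply]
      exact Subtype.ext (mem_centralizer_singleton_iff.1 (e.symm b).2).symm) with h | h
    · exact absurd (congrArg Subtype.val (e.injective (h.trans e.map_one.symm))) ht
    · rw [← h]; simp [φ, tC]
  exact ⟨⟨φ, hinj, by rw [hmt, hr], h16⟩, hmt⟩

namespace Hyp

variable {G : Type u} [Group G] (D : Hyp G)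

theorem mem_cent {g : G} : g ∈ D.phi.range ↔ g * D.phi mt = D.phi mt * g := by
  rw [← D.cent, mem_centralizer_singleton_iff]

/-- The Sylow 2-subgroup of the model. -/
def SM : Subgroup M := Subgroup.centralizer ({mv, mw} : Set M)

theorem mem_SM {a : M} : a ∈ SM ↔ a ∈ Slist := by
  rw [← mem_Slist, SM, Subgroup.mem_centralizer_iff]
  simp

theorem card_SM : Nat.card SM = 8 := by
  classical
  rw [Nat.card_congr (Equiv.subtypeEquivRight fun a => mem_SM : SM ≃ {a : M // a ∈ Slist}),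
    Nat.card_eq_fintype_card, Fintype.card_subtype]
  decide +kernel

/-- The Sylow 2-subgroup. -/
def S : Subgroup G := SM.map D.phi

theorem mem_S {g : G} : g ∈ D.S ↔ ∃ a ∈ Slist, D.phi a = g := by
  simp [S, mem_SM]

theorem card_S : Nat.card D.S = 8 := by
  rw [S, ← Nat.card_congr (SM.equivMapOfInjective D.phi D.inj).toEquiv, card_SM]

theorem t_mem_S : D.phi mt ∈ D.S := D.mem_S.2 ⟨mt, by decide +kernel, rfl⟩

theorem centralizer_S_le {g : G} (hg : ∀ x ∈ D.S, g * x = x * g) : g ∈ D.S := by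
  obtain ⟨a, rfl⟩ := D.mem_cent.2 (hg _ D.t_mem_S)
  refine D.mem_S.2 ⟨a, (mem_Slist a).1 ⟨D.inj ?_, D.inj ?_⟩, rfl⟩
  · rw [map_mul, map_mul]
    exact (hg _ (D.mem_S.2 ⟨mv, by decide +kernel, rfl⟩)).symm
  · rw [map_mul, map_mul]
    exact (hg _ (D.mem_S.2 ⟨mw, by decide +kernel, rfl⟩)).symm

theorem isMulCommutative_S : IsMulCommutative D.S := by
  refine ⟨⟨fun x y => Subtype.ext ?_⟩⟩
  obtain ⟨a, ha, hax⟩ := D.mem_S.1 x.2
  obtain ⟨b, hb, hby⟩ := D.mem_S.1 y.2
  show (x : G) * y = y * x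
  rw [← hax, ← hby, ← map_mul, ← map_mul]
  rw [Slist_comm a ha b hb]

variable [Finite G]

/-- The Sylow 2-subgroup as a Sylow subgroup. -/
noncomputable def sylow : Sylow 2 G :=
  haveI : Fact (Nat.Prime 2) := ⟨Nat.prime_two⟩
  Sylow.ofCard D.S (by
    rw [D.card_S]
    have h8 : 8 ∣ Nat.card G := D.card_S ▸ Subgroup.card_subgroup_dvd_card D.S
    have h := D.h16
    have hne : Nat.card G ≠ 0 := Nat.card_pos.ne'
    have h3 : (Nat.card G).factorization 2 = 3 := by
      refine le_antisymm ?_ ((Nat.prime_two.pow_dvd_iff_le_factorization hne).1 h8)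
      by_contra h4
      exact h ((Nat.prime_two.pow_dvd_iff_le_factorization (k := 4) hne).2 (by omega))
    rw [h3]; norm_num)

theorem sylow_coe : (D.sylow : Subgroup G) = D.S := by
  haveI : Fact (Nat.Prime 2) := ⟨Nat.prime_two⟩
  exact Sylow.coe_ofCard _ _

/-- The normaliser. -/
def N : Subgroup G := Subgroup.normalizer (D.S : Set G)

theorem z_mem_N : D.phi mz ∈ D.N := by
  refine Subgroup.mem_normalizer_fintype fun x hx => ?_
  obtain ⟨a, ha, rfl⟩ := D.mem_S.1 hx
  exact D.mem_S.2 ⟨mz * a * mz⁻¹, z_S a ha, by simp⟩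

theorem conj_mem_N {n x : G} (hn : n ∈ D.N) (hx : x ∈ D.S) : n * x * n⁻¹ ∈ D.S :=
  (Subgroup.mem_normalizer_iff.1 hn x).1 hx

include D in
theorem commutator_top [IsSimpleGroup G] : _root_.commutator G = ⊤ := by
  rcases (inferInstance : (_root_.commutator G).Normal).eq_bot_or_eq_top with h | h
  · exfalso
    have hc : ∀ a b : M, a * b = b * a := fun a b => D.inj (by
      have := Subgroup.commutator_mem_commutator (Subgroup.mem_top (D.phi a))
        (Subgroup.mem_top (D.phi b))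
      rw [show ⁅(⊤ : Subgroup G), ⊤⁆ = _root_.commutator G from rfl, h, Subgroup.mem_bot,
        commutatorElement_eq_one_iff_mul_comm] at this
      rw [map_mul, map_mul, this])
    exact absurd (hc mv mz) (by decide +kernel)
  · exact h

theorem exists_move [IsSimpleGroup G] : ∃ n ∈ D.N, n * D.phi mt * n⁻¹ ≠ D.phi mt := by
  haveI : Fact (Nat.Prime 2) := ⟨Nat.prime_two⟩
  by_contra hall
  push Not at hall
  have hfoc := Subgroup.commutator_inf_eq_focalSubgroup D.sylow
  rw [D.commutator_top, top_inf_eq, D.sylow_coe] at hfoc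
  let K : Subgroup G := ((MonoidHom.fst (Multiplicative (ZMod 2))
    (alternatingGroup (Fin 5))).ker).map D.phi
  have hle : Subgroup.focalSubgroup D.S ≤ K := by
    rw [Subgroup.focalSubgroup_def, Subgroup.closure_le]
    rintro g ⟨hg, x, hx, w, rfl⟩
    have hy : w * x⁻¹ * w⁻¹ ∈ D.S := by
      have := mul_mem (inv_mem hx) hg
      rwa [show x⁻¹ * ⁅x, w⁆ = w * x⁻¹ * w⁻¹ by rw [commutatorElement_def]; group] at this
    haveI : IsMulCommutative (D.sylow : Subgroup G) := D.sylow_coe ▸ D.isMulCommutative_S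
    obtain ⟨n, hn, he⟩ := D.sylow.conj_eq_normalizer_conj_of_mem x⁻¹ w⁻¹
      (show x⁻¹ ∈ (D.sylow : Subgroup G) by rw [D.sylow_coe]; exact inv_mem hx)
      (show w⁻¹⁻¹ * x⁻¹ * w⁻¹ ∈ (D.sylow : Subgroup G) by rwa [inv_inv, D.sylow_coe])
    replace hn : n ∈ D.N := by rw [N, ← D.sylow_coe]; exact hn
    have hn' : n⁻¹ ∈ D.phi.range := D.mem_cent.2 (mul_inv_eq_iff_eq_mul.1 (hall _ (inv_mem hn)))
    obtain ⟨c, hc⟩ := hn'
    obtain ⟨a, ha, rfl⟩ := D.mem_S.1 hx
    refine ⟨a * c * a⁻¹ * c⁻¹, ?_, ?_⟩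
    · rw [SetLike.mem_coe, MonoidHom.mem_ker]; exact fst_conj a c
    · rw [map_mul, map_mul, map_mul, map_inv, map_inv, hc, inv_inv, commutatorElement_def]
      rw [inv_inv] at he
      calc D.phi a * n⁻¹ * (D.phi a)⁻¹ * n = D.phi a * (n⁻¹ * (D.phi a)⁻¹ * n) := by group
        _ = D.phi a * (w * (D.phi a)⁻¹ * w⁻¹) := by rw [he]
        _ = _ := by group
  obtain ⟨a, ha, hat⟩ := hle (hfoc ▸ D.t_mem_S)
  rw [D.inj hat, SetLike.mem_coe, MonoidHom.mem_ker] at ha
  exact mt_fst ha

/-- The conjugates of the central involution under the normaliser, in the model. -/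
noncomputable def orb : Finset M := by
  classical
  exact Slist.toFinset.filter fun a => ∃ n ∈ D.N, n * D.phi mt * n⁻¹ = D.phi a

theorem mem_orb {a : M} : a ∈ D.orb ↔ a ∈ Slist ∧ ∃ n ∈ D.N, n * D.phi mt * n⁻¹ = D.phi a := by
  simp [orb]

theorem card_N_eq : Nat.card D.N = D.orb.card * 24 := by
  classical
  let c : D.N → {a : M // a ∈ D.orb} := fun n =>
    have h := D.mem_S.1 (D.conj_mem_N n.2 D.t_mem_S)
    ⟨h.choose, D.mem_orb.2 ⟨h.choose_spec.1, n, n.2, h.choose_spec.2.symm⟩⟩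
  have hc : ∀ n : D.N, D.phi (c n).1 = (n : G) * D.phi mt * (n : G)⁻¹ := fun n =>
    (D.mem_S.1 (D.conj_mem_N n.2 D.t_mem_S)).choose_spec.2
  haveI := Fintype.ofFinite D.N
  rw [Nat.card_eq_fintype_card, ← Finset.card_univ,
    Finset.card_eq_sum_card_fiberwise (f := c) (t := Finset.univ) (fun _ _ => Finset.mem_univ _),
    Finset.sum_const_nat (m := 24), Finset.card_univ, Fintype.card_coe]
  intro a _
  obtain ⟨n₀, hn₀, hn₀a⟩ := (D.mem_orb.1 a.2).2
  have hmemN : ∀ m : M, D.phi m ∈ D.N ↔ Slist.all (fun b => Slist.contains (m * b * m⁻¹)) = true := by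
    intro m
    simp only [List.all_eq_true, List.contains_iff_mem]
    constructor
    · intro hm b hb
      obtain ⟨b', hb', he⟩ := D.mem_S.1 (D.conj_mem_N hm (D.mem_S.2 ⟨b, hb, rfl⟩))
      rw [← map_inv, ← map_mul, ← map_mul] at he
      exact D.inj he ▸ hb'
    · intro hm
      refine Subgroup.mem_normalizer_fintype fun x hx => ?_
      obtain ⟨b, hb, rfl⟩ := D.mem_S.1 hx
      exact D.mem_S.2 ⟨m * b * m⁻¹, hm b hb, by simp⟩
  rw [← card_normalizer_S]
  symm
  refine Finset.card_bij (fun m hm => (⟨n₀ * D.phi m, mul_mem hn₀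
    ((hmemN m).2 (Finset.mem_filter.1 hm).2)⟩ : D.N)) (fun m hm => ?_) ?_ ?_
  · refine Finset.mem_filter.2 ⟨Finset.mem_univ _, Subtype.ext (D.inj ?_)⟩
    rw [hc, ← hn₀a]
    show n₀ * D.phi m * D.phi mt * (n₀ * D.phi m)⁻¹ = _
    rw [mul_assoc n₀, ← map_mul, mt_central, map_mul]
    group
  · intro m₁ _ m₂ _ h
    exact D.inj (mul_left_cancel (congrArg Subtype.val h :))
  · intro n hn
    have e : D.phi a.1 = (n : G) * D.phi mt * (n : G)⁻¹ := by
      rw [← (Finset.mem_filter.1 hn).2, hc]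
    rw [← hn₀a] at e
    obtain ⟨m, hm⟩ := D.mem_cent.2 (show n₀⁻¹ * (n : G) * D.phi mt = D.phi mt * (n₀⁻¹ * n) by
      calc n₀⁻¹ * (n : G) * D.phi mt = n₀⁻¹ * ((n : G) * D.phi mt * (n : G)⁻¹) * n := by group
        _ = n₀⁻¹ * (n₀ * D.phi mt * n₀⁻¹) * n := by rw [e]
        _ = _ := by group)
    refine ⟨m, Finset.mem_filter.2 ⟨Finset.mem_univ _, (hmemN m).1 ?_⟩, Subtype.ext ?_⟩
    · rw [hm]; exact mul_mem (inv_mem hn₀) n.2
    · show n₀ * D.phi m = n
      rw [hm]; group

theorem orb_full [IsSimpleGroup G] : D.orb = (Slist.toFinset.erase 1) := by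
  classical
  have hsub : D.orb ⊆ Slist.toFinset.erase 1 := fun a ha => by
    obtain ⟨ha1, n, -, hn⟩ := D.mem_orb.1 ha
    refine Finset.mem_erase.2 ⟨fun h1 => ?_, List.mem_toFinset.2 ha1⟩
    rw [h1, map_one, mul_inv_eq_one, mul_eq_left] at hn
    exact mt_sq.2 (D.inj (hn.trans D.phi.map_one.symm))
  have hodd : Odd D.orb.card := by
    by_contra h
    rw [Nat.not_odd_iff_even] at h
    obtain ⟨j, hj⟩ := h
    refine D.h16 (dvd_trans ?_ (Subgroup.card_subgroup_dvd_card D.N))
    rw [D.card_N_eq, hj]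
    exact ⟨3 * j, by ring⟩
  have ht : mt ∈ D.orb := D.mem_orb.2 ⟨by decide +kernel, 1, one_mem _, by simp⟩
  have hz : ∀ a ∈ D.orb, mz * a * mz⁻¹ ∈ D.orb := fun a ha => by
    obtain ⟨ha1, n, hn, hna⟩ := D.mem_orb.1 ha
    refine D.mem_orb.2 ⟨z_S a ha1, D.phi mz * n, mul_mem D.z_mem_N hn, ?_⟩
    rw [map_mul, map_mul, map_inv, ← hna]; group
  obtain ⟨n, hn, hne⟩ := D.exists_move
  obtain ⟨b, hb, hbe⟩ := D.mem_S.1 (D.conj_mem_N hn D.t_mem_S)
  have hb' : b ∈ D.orb := D.mem_orb.2 ⟨hb, n, hn, hbe.symm⟩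
  have hbt : b ≠ mt := fun h => hne (by rw [← hbe, h])
  obtain ⟨z1, z2, z3, z4, z5, z6, -, -⟩ := z_orbits
  have c1 : mv ∈ D.orb → mw ∈ D.orb := fun h => z1 ▸ hz _ h
  have c2 : mw ∈ D.orb → mv * mw ∈ D.orb := fun h => z2 ▸ hz _ h
  have c3 : mv * mw ∈ D.orb → mv ∈ D.orb := fun h => z3 ▸ hz _ h
  have c4 : mt * mv ∈ D.orb → mt * mw ∈ D.orb := fun h => z4 ▸ hz _ h
  have c5 : mt * mw ∈ D.orb → mt * (mv * mw) ∈ D.orb := fun h => z5 ▸ hz _ h
  have c6 : mt * (mv * mw) ∈ D.orb → mt * mv ∈ D.orb := fun h => z6 ▸ hz _ h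
  have hlist : ∀ a ∈ Slist.toFinset.erase 1, a = mt ∨ a = mv ∨ a = mw ∨ a = mv * mw ∨
      a = mt * mv ∨ a = mt * mw ∨ a = mt * (mv * mw) := fun a ha => by
    have := List.mem_toFinset.1 (Finset.mem_of_mem_erase ha)
    have hne1 := Finset.ne_of_mem_erase ha
    simp only [Slist, List.mem_cons, List.not_mem_nil, or_false] at this
    rcases this with h | h | h | h | h | h | h | h
    · exact absurd h hne1
    all_goals simp only [mw] at *; simp [h]
  by_cases h1 : mv ∈ D.orb <;> by_cases h2 : mt * mv ∈ D.orb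
  · refine Finset.Subset.antisymm hsub fun a ha => ?_
    rcases hlist a ha with rfl | rfl | rfl | rfl | rfl | rfl | rfl
    exacts [ht, h1, c1 h1, c2 (c1 h1), h2, c4 h2, c5 (c4 h2)]
  · exfalso
    have e : D.orb = {mt, mv, mw, mv * mw} := by
      refine Finset.Subset.antisymm (fun a ha => ?_) ?_
      · rcases hlist a (hsub ha) with rfl | rfl | rfl | rfl | rfl | rfl | rfl
        exacts [by simp only [Finset.mem_insert, Finset.mem_singleton, true_or, or_true], by simp only [Finset.mem_insert, Finset.mem_singleton, true_or, or_true], by simp only [Finset.mem_insert, Finset.mem_singleton, true_or, or_true], by simp only [Finset.mem_insert, Finset.mem_singleton, true_or, or_true], absurd ha h2, absurd (c6 (c5 ha)) h2,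
          absurd (c6 ha) h2]
      · simp only [Finset.insert_subset_iff, Finset.singleton_subset_iff]
        exact ⟨ht, h1, c1 h1, c2 (c1 h1)⟩
    rw [e] at hodd; revert hodd; decide +kernel
  · exfalso
    have e : D.orb = {mt, mt * mv, mt * mw, mt * (mv * mw)} := by
      refine Finset.Subset.antisymm (fun a ha => ?_) ?_
      · rcases hlist a (hsub ha) with rfl | rfl | rfl | rfl | rfl | rfl | rfl
        exacts [by simp only [Finset.mem_insert, Finset.mem_singleton, true_or, or_true], absurd ha h1, absurd (c3 (c2 ha)) h1, absurd (c3 ha) h1,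
          by simp only [Finset.mem_insert, Finset.mem_singleton, true_or, or_true], by simp only [Finset.mem_insert, Finset.mem_singleton, true_or, or_true], by simp only [Finset.mem_insert, Finset.mem_singleton, true_or, or_true]]
      · simp only [Finset.insert_subset_iff, Finset.singleton_subset_iff]
        exact ⟨ht, h2, c4 h2, c5 (c4 h2)⟩
    rw [e] at hodd; revert hodd; decide +kernel
  · exfalso
    rcases hlist b (hsub hb') with rfl | rfl | rfl | rfl | rfl | rfl | rfl
    exacts [hbt rfl, h1 hb', h1 (c3 (c2 hb')), h1 (c3 hb'), h2 hb', h2 (c6 (c5 hb')), h2 (c6 hb')]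

theorem card_N [IsSimpleGroup G] : Nat.card D.N = 168 := by
  rw [D.card_N_eq, D.orb_full, show (Slist.toFinset.erase 1).card = 7 by decide +kernel]

/-- The same centraliser through the flipped identification. -/
def flipped : Hyp G where
  phi := D.phi.comp flip.toMonoidHom
  inj := D.inj.comp flip.injective
  cent := by
    rw [MonoidHom.range_comp, show flip.toMonoidHom.range = ⊤ from
      MonoidHom.range_eq_top.2 flip.surjective, ← MonoidHom.range_eq_map]
    show Subgroup.centralizer ({D.phi (flip mt)} : Set G) = _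
    rw [flip_values.1, D.cent]
  h16 := D.h16

theorem exists_amal [IsSimpleGroup G] : ∃ E : Amal G, E.phi mt = D.phi mt := by
  haveI : Fact (Nat.Prime 7) := ⟨by norm_num⟩
  haveI : Fact (Nat.Prime 3) := ⟨by norm_num⟩
  have hN := D.card_N
  let z : D.N := ⟨D.phi mz, D.z_mem_N⟩
  have hz3 : z ^ 3 = 1 := Subtype.ext (by
    show D.phi mz ^ 3 = 1
    rw [← map_pow, z_orbits.2.2.2.2.2.2.2, map_one])
  obtain ⟨P, hP⟩ : ∃ P : Sylow 7 D.N, z • P = P := by
    have hZ : IsPGroup 3 (Subgroup.zpowers z) := fun g => ⟨1, by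
      obtain ⟨k, hk⟩ := Subgroup.mem_zpowers_iff.1 g.2
      refine Subtype.ext ?_
      simp only [pow_one, SubmonoidClass.coe_pow, ← hk, OneMemClass.coe_one]
      rw [← zpow_natCast, ← zpow_mul, mul_comm, zpow_mul, zpow_natCast, hz3, one_zpow]⟩
    obtain ⟨P, hP⟩ := hZ.nonempty_fixed_point_of_prime_not_dvd_card (Sylow 7 D.N) (by
      intro h3
      have h1 := card_sylow_modEq_one 7 D.N
      have h2 : Nat.card (Sylow 7 D.N) ∣ 168 := hN ▸
        (Sylow.card_dvd_index (Classical.arbitrary (Sylow 7 D.N))).trans (Subgroup.index_dvd_card _)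
      have hle := Nat.le_of_dvd (by norm_num) h2
      obtain ⟨c, hc⟩ := h3
      rw [hc] at h1 h2 hle
      have : c ≤ 56 := by omega
      interval_cases c <;> simp_all [Nat.ModEq])
    exact ⟨P, hP ⟨z, Subgroup.mem_zpowers z⟩⟩
  have hPc : Nat.card P = 7 := by
    rw [Sylow.card_eq_multiplicity, hN,
      show (168 : ℕ) = 7 ^ 1 * 24 from rfl, Nat.factorization_mul (by norm_num) (by norm_num),
      Finsupp.add_apply, Nat.Prime.factorization_pow (by norm_num), Finsupp.single_eq_same,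
      Nat.factorization_eq_zero_of_not_dvd (by norm_num : ¬ 7 ∣ 24)]
    norm_num
  obtain ⟨n, hn⟩ := exists_prime_orderOf_dvd_card' (G := P) 7 (by rw [hPc])
  set m : G := ((n : D.N) : G) with hm
  have hmo : orderOf m = 7 := by
    rw [hm, Subgroup.orderOf_coe, Subgroup.orderOf_coe, hn]
  have hmN : m ∈ D.N := (n : D.N).2
  have hzn : ∃ j : ℕ, D.phi mz * m * (D.phi mz)⁻¹ = m ^ j := by
    have h : z * (n : D.N) * z⁻¹ ∈ (P : Subgroup D.N) := by
      refine (SetLike.ext_iff.mp (congrArg Sylow.toSubgroup hP) _).1 ?_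
      rw [Sylow.coe_subgroup_smul]
      exact ⟨n, n.2, rfl⟩
    have hgen : Subgroup.zpowers (n : D.N) = (P : Subgroup D.N) := by
      refine Subgroup.eq_of_le_of_card_ge ((Subgroup.zpowers_le).2 n.2) ?_
      rw [Nat.card_zpowers, Subgroup.orderOf_coe, hn]
      exact hPc.le
    replace h := (SetLike.ext_iff.mp hgen _).2 h
    rw [← mem_powers_iff_mem_zpowers, Submonoid.mem_powers_iff] at h
    obtain ⟨j, hj⟩ := h
    exact ⟨j, (congrArg Subtype.val hj).symm⟩
  obtain ⟨j, hj⟩ := hzn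
  set T := D.phi mt with hT
  have hmT : ∀ k : ℕ, ¬ 7 ∣ k → m ^ k * T * (m ^ k)⁻¹ ≠ T := fun k hk h => by
    obtain ⟨a, ha⟩ := D.mem_cent.2 (mul_inv_eq_iff_eq_mul.1 h)
    have ha7 : a ^ 7 = 1 := D.inj (by
      rw [map_pow, ha, map_one, ← pow_mul, mul_comm, pow_mul, ← hmo, pow_orderOf_eq_one, one_pow])
    rw [not_dvd_seven a ha7, map_one, eq_comm] at ha
    exact hk (hmo ▸ orderOf_dvd_of_pow_eq_one ha)
  -- a power carrying `t` to `v`
  have hex : ∃ i : ℕ, m ^ i * T * (m ^ i)⁻¹ = D.phi mv := by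
    classical
    let f : Fin 7 → M := fun i =>
      (D.mem_S.1 (D.conj_mem_N (pow_mem hmN i.val) D.t_mem_S)).choose
    have hf : ∀ i, f i ∈ Slist ∧ D.phi (f i) = m ^ i.val * T * (m ^ i.val)⁻¹ := fun i =>
      (D.mem_S.1 (D.conj_mem_N (pow_mem hmN i.val) D.t_mem_S)).choose_spec
    have hinj : Function.Injective f := by
      intro a b hab
      by_contra hne
      wlog hlt : a.val < b.val generalizing a b
      · exact this hab.symm (Ne.symm hne) (lt_of_le_of_ne (not_lt.1 hlt)
          (fun h => hne (Fin.ext h.symm)))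
      have e := congrArg D.phi hab
      rw [(hf a).2, (hf b).2, show b.val = a.val + (b.val - a.val) by omega, pow_add] at e
      refine hmT (b.val - a.val) (fun hd => ?_) ?_
      · have := Nat.le_of_dvd (by omega) hd; omega
      · calc m ^ (b.val - a.val) * T * (m ^ (b.val - a.val))⁻¹
            = (m ^ a.val)⁻¹ * (m ^ a.val * m ^ (b.val - a.val) * T *
              (m ^ a.val * m ^ (b.val - a.val))⁻¹) * m ^ a.val := by group
          _ = _ := by rw [← e]; group
    have himg : Finset.univ.image f = Slist.toFinset.erase 1 := by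
      refine Finset.eq_of_subset_of_card_le ?_ ?_
      · rw [← D.orb_full]
        intro a ha
        obtain ⟨i, -, rfl⟩ := Finset.mem_image.1 ha
        exact D.mem_orb.2 ⟨(hf i).1, m ^ i.val, pow_mem hmN _, (hf i).2.symm⟩
      · rw [Finset.card_image_of_injective _ hinj, Finset.card_univ, Fintype.card_fin]
        exact le_of_eq (by decide +kernel)
    have hv : mv ∈ Finset.univ.image f := by rw [himg]; decide +kernel
    obtain ⟨i, -, hi⟩ := Finset.mem_image.1 hv
    exact ⟨i, by rw [← (hf i).2, hi]⟩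
  obtain ⟨i, hi⟩ := hex
  set s := m ^ i
  have hs7 : s ^ 7 = 1 := by rw [← pow_mul, mul_comm, pow_mul, ← hmo, pow_orderOf_eq_one, one_pow]
  set Z := D.phi mz with hZdef
  have hsj : Z * s * Z⁻¹ = s ^ j := by rw [← conj_pow, hj, ← pow_mul, ← pow_mul, mul_comm]
  have hjm : s ^ j = s ^ (j % 7) := by
    conv_lhs => rw [← Nat.div_add_mod j 7, pow_add, pow_mul, hs7, one_pow, one_mul]
  rw [hjm] at hsj
  have hzz : Z * Z * Z = 1 := by
    rw [hZdef, ← map_mul, ← map_mul, show mz * mz * mz = 1 by decide +kernel, map_one]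
  have hcube : s ^ ((j % 7) * (j % 7) * (j % 7)) = s := by
    have e1 : ∀ k : ℕ, Z * s ^ k * Z⁻¹ = s ^ ((j % 7) * k) := fun k => by
      rw [← conj_pow, hsj, pow_mul]
    calc s ^ ((j % 7) * (j % 7) * (j % 7)) = Z * (Z * (Z * s ^ 1 * Z⁻¹) * Z⁻¹) * Z⁻¹ := by
          rw [e1, e1, e1, mul_one, mul_assoc]
      _ = (Z * Z * Z) * s * (Z * Z * Z)⁻¹ := by rw [pow_one]; group
      _ = s := by rw [hzz]; group
  have hs1 : s ≠ 1 := fun h => by
    rw [h] at hi
    simp only [one_mul, inv_one, mul_one] at hi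
    exact absurd (D.inj hi) (by decide +kernel)
  have hso : orderOf s = 7 := orderOf_eq_prime hs7 hs1
  have hne1 : j % 7 ≠ 1 := by
    intro h1
    rw [h1, pow_one] at hsj
    refine z_moves_v (D.inj ?_)
    rw [map_mul, map_mul, map_inv, ← hi]
    have hc : Z * T = T * Z := by
      rw [hZdef, hT, ← map_mul, ← map_mul, z_orbits.2.2.2.2.2.2.1]
    have hcs : Z * s = s * Z := mul_inv_eq_iff_eq_mul.1 hsj
    calc Z * (s * T * s⁻¹) * Z⁻¹ = (Z * s) * T * (Z * s)⁻¹ := by group
      _ = (s * Z) * T * (s * Z)⁻¹ := by rw [hcs]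
      _ = s * (Z * T) * Z⁻¹ * s⁻¹ := by group
      _ = _ := by rw [hc]; group
  have hmod := (pow_inj_mod.1 (hcube.trans (pow_one s).symm))
  rw [hso] at hmod
  have hj7 : j % 7 < 7 := Nat.mod_lt _ (by norm_num)
  have hj24 : j % 7 = 2 ∨ j % 7 = 4 := by
    interval_cases h : j % 7 <;> simp_all
  rcases hj24 with h | h
  · exact ⟨⟨D, s, hs7, hi, by rw [hsj, h, pow_two]⟩, rfl⟩
  · refine ⟨⟨D.flipped, s, hs7, ?_, ?_⟩, ?_⟩
    · show s * D.phi (flip mt) * s⁻¹ = D.phi (flip mv)
      rw [flip_values.1, flip_values.2.1]; exact hi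
    · show D.phi (flip mz) * s * (D.phi (flip mz))⁻¹ = s * s
      rw [h] at hsj
      rw [flip_values.2.2, map_inv, inv_inv]
      have e2 : Z * (s * s) * Z⁻¹ = s := by
        rw [← pow_two, ← conj_pow, hsj, ← pow_mul, show 4 * 2 = 7 + 1 from rfl, pow_add, hs7,
          one_mul, pow_one]
      calc Z⁻¹ * s * Z = Z⁻¹ * (Z * (s * s) * Z⁻¹) * Z := by rw [e2]
        _ = _ := by group
    · show D.phi (flip mt) = _
      rw [flip_values.1]

end Hyp

end CfsgLib.J1Char
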