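import Cfsg.Agent.Coset.Table

/-!
The amalgam of `C₂ × A₅` and `2³:7:3` over `C₂ × A₄` and the possible extra relators.
-/

set_option autoImplicit false

namespace CfsgLib.J1Char

/-- Inversion of the seven letters `t v u z z⁻¹ s s⁻¹`. -/
def iv (x : Nat) : Nat :=
  cond (Nat.beq x 3) 4 (cond (Nat.beq x 4) 3 (cond (Nat.beq x 5) 6 (cond (Nat.beq x 6) 5 x)))

/-- Relators of the centraliser of `t`. -/
def cRels : List (List Nat) := [[0, 0], [1, 1], [2, 2], [3, 4], [4, 3], [3, 3, 3], [0, 1, 0, 1], [0, 3, 0, 4], [0, 2, 0, 2], [1, 3, 1, 3, 1, 3], [2, 1, 2, 1, 2, 1], [2, 3, 2, 3]]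

/-- Relators of the normaliser of the Sylow subgroup. -/
def nRels : List (List Nat) := [[5, 6], [6, 5], [5, 5, 5, 5, 5, 5, 5], [1, 3, 1, 4, 1, 3, 1, 4], [4, 1, 3, 1, 3, 1, 4], [5, 0, 6, 1], [5, 1, 6, 3, 1, 4], [5, 3, 1, 4, 6, 1, 0], [3, 5, 4, 6, 6]]

/-- Relators of the amalgam. -/
def amRels : List (List Nat) := cRels ++ nRels

/-- The candidates. -/
def cands : List (Nat × List Nat) := [(1, [2, 1, 4]), (1, [1, 2, 1, 3]), (1, [2, 1, 3, 1]), (1, [3, 1, 2, 3]), (3, [1, 2, 3, 1, 4]), (3, [1, 2, 1, 4]), (3, [1, 3, 1, 2]), (3, [1, 2, 1, 3, 1])]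

/-- Relators of case 0. -/
def rels0 : List (List Nat) := amRels ++ [[5, 2, 1, 4, 6, 1, 3, 2, 5, 3, 1, 2, 6, 2, 4, 1]]

/-- Relators of case 1. -/
def rels1 : List (List Nat) := amRels ++ [[5, 1, 2, 1, 3, 6, 1, 3, 2, 5, 4, 1, 2, 1, 6, 2, 4, 1]]

/-- Relators of case 2. -/
def rels2 : List (List Nat) := amRels ++ [[5, 2, 1, 3, 1, 6, 1, 3, 2, 5, 1, 4, 1, 2, 6, 2, 4, 1]]

/-- Relators of case 3. -/
def rels3 : List (List Nat) := amRels ++ [[5, 3, 1, 2, 3, 6, 1, 3, 2, 5, 4, 2, 1, 4, 6, 2, 4, 1]]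

/-- Relators of case 4. -/
def rels4 : List (List Nat) := amRels ++ [[5, 5, 5, 1, 2, 3, 1, 4, 6, 6, 6, 1, 3, 2, 5, 5, 5, 3, 1, 4, 2, 1, 6, 6, 6, 2, 4, 1]]

/-- Relators of case 5. -/
def rels5 : List (List Nat) := amRels ++ [[5, 5, 5, 1, 2, 1, 4, 6, 6, 6, 1, 3, 2, 5, 5, 5, 3, 1, 2, 1, 6, 6, 6, 2, 4, 1]]

/-- Relators of case 6. -/
def rels6 : List (List Nat) := amRels ++ [[5, 5, 5, 1, 3, 1, 2, 6, 6, 6, 1, 3, 2, 5, 5, 5, 2, 1, 4, 1, 6, 6, 6, 2, 4, 1]]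

/-- Relators of case 7. -/
def rels7 : List (List Nat) := amRels ++ [[5, 5, 5, 1, 2, 1, 3, 1, 6, 6, 6, 1, 3, 2, 5, 5, 5, 1, 4, 1, 2, 1, 6, 6, 6, 2, 4, 1]]

/-- The generators of the centraliser of `t`. -/
def cGens : List (List Nat) := [[0], [1], [2], [3]]

end CfsgLib.J1Char
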