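import Cfsg.Agent.Coset.Table
import Cfsg.Agent.J1Char.Rels
import Cfsg.Agent.J1Char.T6Data

set_option autoImplicit false
set_option maxRecDepth 100000

namespace CfsgLib.J1Char.T6

open CfsgLib.Coset

theorem hR : checkRules rels6 subs R = true := by decide +kernel
theorem hdefs : checkDefs E 7 8 159 = true := by decide +kernel
theorem hsteps : checkChunks E iv R 7 3 159 7 C = true := by decide +kernel
theorem htable : checkTable E iv (159 + chunk * 7) 1 7 1 3 Rep Ref Tb = true := by decide +kernel

end CfsgLib.J1Char.T6
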