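import Cfsg.Agent.Coset.Table
import Cfsg.Agent.J1Char.Rels
import Cfsg.Agent.J1Char.T7Data

set_option autoImplicit false
set_option maxRecDepth 100000

namespace CfsgLib.J1Char.T7

open CfsgLib.Coset

theorem hR : checkRules rels7 subs R = true := by decide +kernel
theorem hdefs : checkDefs E 7 7 93 = true := by decide +kernel
theorem hsteps : checkChunks E iv R 7 2 93 4 C = true := by decide +kernel
theorem htable : checkTable E iv (93 + chunk * 4) 1 7 1 3 Rep Ref Tb = true := by decide +kernel

end CfsgLib.J1Char.T7
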