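import Cfsg.Agent.Coset.Table
import Cfsg.Agent.J1Char.Rels
import Cfsg.Agent.J1Char.TCData

set_option autoImplicit false
set_option maxRecDepth 100000

namespace CfsgLib.J1Char.TC

open CfsgLib.Coset

theorem hR : checkRules cRels subs R = true := by decide +kernel
theorem hdefs : checkDefs E 5 7 120 = true := by decide +kernel
theorem hsteps : checkChunks E iv R 5 2 120 3 C = true := by decide +kernel
theorem htable : checkTable E iv (120 + chunk * 3) 120 5 7 3 Rep Ref Tb = true := by decide +kernel

end CfsgLib.J1Char.TC
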