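import Cfsg.Agent.Coset.Presented
import Cfsg.Agent.J1Local.Cent
import Cfsg.Agent.J1Char.Rels
import Cfsg.Agent.J1Char.TC
import Cfsg.Agent.J1Char.T0
import Cfsg.Agent.J1Char.T1
import Cfsg.Agent.J1Char.T2
import Cfsg.Agent.J1Char.T3
import Cfsg.Agent.J1Char.T4
import Cfsg.Agent.J1Char.T5
import Cfsg.Agent.J1Char.T6
import Cfsg.Agent.J1Char.T7

/-!
Groups generated by the amalgam with one of the extra relators: seven cases collapse, the remaining
one is the group of order `175560`.
-/

set_option autoImplicit false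
set_option maxRecDepth 100000

namespace CfsgLib.J1Char

open CfsgLib.Coset

variable {G : Type*} [Group G] {L : List G}

/-- The subgroup generated by the first five letters. -/
def Hc (L : List G) : Subgroup G := Subgroup.closure {x | x ∈ L.take 5}

theorem inv_ok (hL : L.length = 7) (h : ∀ w ∈ amRels, ev L w = 1) (x : Nat) :
    fl L (iv x) = (fl L x)⁻¹ := by
  have e : ∀ a b : Nat, [a, b] ∈ amRels → fl L b = (fl L a)⁻¹ := fun a b hab => by
    have := h _ hab
    simp only [ev_cons, ev_nil, mul_one] at this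
    exact eq_inv_of_mul_eq_one_right this
  have e7 : fl L 5 * fl L 6 = 1 := by
    simpa using h [5, 6] (by decide)
  rcases x with _ | _ | _ | _ | _ | _ | _ | x
  · exact e 0 0 (by decide)
  · exact e 1 1 (by decide)
  · exact e 2 2 (by decide)
  · exact e 3 4 (by decide)
  · exact e 4 3 (by decide)
  · exact e 5 6 (by decide)
  · exact e 6 5 (by decide)
  · rw [show iv (x + 7) = x + 7 from rfl, fl_of_le L (by omega), inv_one]

theorem take_inv (hL : L.length = 7) (h : ∀ w ∈ amRels, ev L w = 1) (x : Nat) :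
    fl (L.take 5) (iv x) = (fl (L.take 5) x)⁻¹ := by
  have e : ∀ a, a < 5 → fl (L.take 5) a = fl L a := fun a ha => by
    simp [fl, List.getD_eq_getElem?_getD, ha]
  rcases lt_or_ge x 5 with hx | hx
  · have hiv : iv x < 5 := by interval_cases x <;> decide
    rw [e x hx, e _ hiv, inv_ok hL h]
  · have hiv : 5 ≤ iv x := by
      rcases x with _ | _ | _ | _ | _ | _ | _ | x <;> first | omega | decide | skip
      show 5 ≤ x + 7
      omega
    rw [fl_of_le _ (by simp [hL]; omega), fl_of_le _ (by simp [hL]; omega), inv_one]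

theorem ev_take (w : List Nat) (hw : ∀ l ∈ w, l < 5) : ev (L.take 5) w = ev L w := by
  induction w with
  | nil => rfl
  | cons a w ih =>
    have ha : a < 5 := hw a (by simp)
    rw [ev_cons, ev_cons, ih fun l hl => hw l (by simp [hl])]
    congr 1
    simp [fl, List.getD_eq_getElem?_getD, ha]

theorem card_Hc (hL : L.length = 7) (h : ∀ w ∈ amRels, ev L w = 1) :
    Finite (Hc L) ∧ Nat.card (Hc L) ≤ 120 := by
  have h5 : (L.take 5).length = 5 := by simp [hL]
  have ht : TableOK (L.take 5) (⊥ : Subgroup G) TC.E iv 120 TC.Rep TC.Tb :=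
    tableOK_of_check (take_inv hL h) TC.hR (h5.symm ▸ TC.hdefs) (h5.symm ▸ TC.hsteps)
      (h5.symm ▸ TC.htable) (fun w hw => by
        have hlt : ∀ l ∈ w, l < 5 := by
          revert w; decide
        rw [ev_take w hlt]
        exact h w (List.mem_append_left _ hw))
      (fun w hw => absurd hw (by simp [TC.subs]))
  have := ht.finite_card_le (by norm_num) bot_le (m := 1) inferInstance (by simp)
  exact ⟨this.1, this.2⟩

theorem cGens_mem : ∀ w ∈ cGens, ev L w ∈ Hc L := by
  intro w hw
  have hlt : ∀ l ∈ w, l < 5 := by revert w; decide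
  rw [← ev_take w hlt]
  induction w with
  | nil => exact one_mem _
  | cons a w ih =>
    simp only [cGens, List.mem_cons, List.not_mem_nil, or_false, List.cons.injEq] at hw
    rcases hw with ⟨-, rfl⟩ | ⟨-, rfl⟩ | ⟨-, rfl⟩ | ⟨-, rfl⟩ <;>
    · simp only [ev_cons, ev_nil, mul_one]
      exact mem_closure_fl _

theorem le_of_table_one {E iv' Rep Tb : Nat → Nat} {H : Subgroup G}
    (h : TableOK L H E iv' 1 Rep Tb) : Subgroup.closure {x | x ∈ L} ≤ H := by
  intro g hg
  obtain ⟨i, hi, hgi⟩ := h.cover one_pos hg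
  obtain rfl : i = 0 := by omega
  simpa [h.zero, rp_zero] using hgi

/-- The relators of the cases. -/
def relsK : Nat → List (List Nat)
  | 0 => rels0 | 1 => rels1 | 2 => rels2 | 3 => rels3
  | 4 => rels4 | 5 => rels5 | 6 => rels6 | _ => rels7

theorem closure_le_Hc {k : Nat} (hk : k < 8) (hk5 : k ≠ 5) (hL : L.length = 7)
    (h : ∀ w ∈ relsK k, ev L w = 1) : Subgroup.closure {x | x ∈ L} ≤ Hc L := by
  interval_cases k
  · exact le_of_table_one (tableOK_of_check (inv_ok hL fun w hw => h w (List.mem_append_left _ hw))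
      T0.hR (hL.symm ▸ T0.hdefs) (hL.symm ▸ T0.hsteps) (hL.symm ▸ T0.htable) h
      (fun w hw => cGens_mem w hw))
  · exact le_of_table_one (tableOK_of_check (inv_ok hL fun w hw => h w (List.mem_append_left _ hw))
      T1.hR (hL.symm ▸ T1.hdefs) (hL.symm ▸ T1.hsteps) (hL.symm ▸ T1.htable) h
      (fun w hw => cGens_mem w hw))
  · exact le_of_table_one (tableOK_of_check (inv_ok hL fun w hw => h w (List.mem_append_left _ hw))
      T2.hR (hL.symm ▸ T2.hdefs) (hL.symm ▸ T2.hsteps) (hL.symm ▸ T2.htable) h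
      (fun w hw => cGens_mem w hw))
  · exact le_of_table_one (tableOK_of_check (inv_ok hL fun w hw => h w (List.mem_append_left _ hw))
      T3.hR (hL.symm ▸ T3.hdefs) (hL.symm ▸ T3.hsteps) (hL.symm ▸ T3.htable) h
      (fun w hw => cGens_mem w hw))
  · exact le_of_table_one (tableOK_of_check (inv_ok hL fun w hw => h w (List.mem_append_left _ hw))
      T4.hR (hL.symm ▸ T4.hdefs) (hL.symm ▸ T4.hsteps) (hL.symm ▸ T4.htable) h
      (fun w hw => cGens_mem w hw))
  · exact absurd rfl hk5
  · exact le_of_table_one (tableOK_of_check (inv_ok hL fun w hw => h w (List.mem_append_left _ hw))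
      T6.hR (hL.symm ▸ T6.hdefs) (hL.symm ▸ T6.hsteps) (hL.symm ▸ T6.htable) h
      (fun w hw => cGens_mem w hw))
  · exact le_of_table_one (tableOK_of_check (inv_ok hL fun w hw => h w (List.mem_append_left _ hw))
      T7.hR (hL.symm ▸ T7.hdefs) (hL.symm ▸ T7.hsteps) (hL.symm ▸ T7.htable) h
      (fun w hw => cGens_mem w hw))

/-- The presented group of the surviving case. -/
abbrev Q : Type := NumGr 7 rels5

/-- Its generators. -/
noncomputable abbrev LQ : List Q := numGens 7 rels5

theorem len_LQ : (LQ).length = 7 := length_numGens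

theorem LQ_am : ∀ w ∈ amRels, ev LQ w = 1 := fun w hw =>
  ev_numGens w (List.mem_append_left _ hw)

theorem card_Q : Finite Q ∧ Nat.card Q ≤ 175560 := by
  have ht : TableOK LQ (Hc LQ) T5.E iv 1463 T5.Rep T5.Tb :=
    tableOK_of_check (inv_ok len_LQ LQ_am) T5.hR (len_LQ.symm ▸ T5.hdefs)
      (len_LQ.symm ▸ T5.hsteps) (len_LQ.symm ▸ T5.htable) ev_numGens (fun w hw => cGens_mem w hw)
  have hle : Hc LQ ≤ Subgroup.closure {x | x ∈ LQ} := by
    rw [closure_numGens]; exact le_top
  obtain ⟨hf, hc⟩ := ht.finite_card_le (by norm_num) hle (card_Hc len_LQ LQ_am).1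
    (card_Hc len_LQ LQ_am).2
  rw [closure_numGens] at hf hc
  rw [Subgroup.card_top] at hc
  exact ⟨Finite.of_equiv _ Subgroup.topEquiv.toEquiv, hc.trans (by norm_num)⟩

/-- Words in the involutions of `Coset.J1.P` for the seven letters. -/
def phiWords : List (List Nat) := [[0], [2, 1, 2, 1, 0, 1, 2, 1, 2], [1, 3, 2, 0, 1, 2, 3, 2, 1, 0, 3, 2], [0, 2, 1, 3, 0, 2, 1, 2, 3, 0, 2], [0, 2, 0, 3, 2, 1, 2, 0, 3, 1, 2], [2, 0, 1, 2, 0, 3, 2, 0, 1], [1, 0, 2, 3, 0, 2, 1, 0, 2]]

/-- Words in the seven letters for the four involutions. -/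
def backWords : List (List Nat) := [[0], [1, 2, 1, 6, 0, 2, 5, 2, 4], [5, 1, 5, 5, 2, 1, 6, 6, 2, 5], [1, 6, 6, 2, 5, 5, 2, 5, 2, 4]]

/-- The images of the seven letters. -/
noncomputable def Lphi : List J1.P := phiWords.map (ev J1.Lp)

theorem len_Lphi : (Lphi).length = 7 := by simp [Lphi, phiWords]

theorem phi_check : (rels5.all fun w => J1Local.sameW (J1Local.wsub phiWords w) []) = true := by
  decide +kernel

theorem back_check : ((List.range 4).all fun l =>
    J1Local.sameW (J1Local.wsub phiWords (backWords.getD l [])) [l]) = true := by decide +kernel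

theorem phi_rels : ∀ w ∈ rels5, ev Lphi w = 1 := fun w hw => by
  rw [Lphi, J1Local.ev_map, J1Local.sameW_eq (List.all_eq_true.mp phi_check w hw), ev_nil]

/-- The map to the group of order `175560`. -/
noncomputable def toP : Q →* J1.P := numHom (L := Lphi) len_Lphi phi_rels

theorem toP_surjective : Function.Surjective toP := by
  rw [← MonoidHom.range_eq_top, eq_top_iff, ← J1.closure_Lp, Subgroup.closure_le]
  intro x hx
  obtain ⟨l, hl, rfl⟩ := List.getElem_of_mem hx
  refine ⟨ev LQ (backWords.getD l []), ?_⟩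
  rw [toP, numHom_ev, Lphi, J1Local.ev_map,
    J1Local.sameW_eq (List.all_eq_true.mp back_check l (List.mem_range.mpr (J1.len_Lp ▸ hl)))]
  simp [fl, List.getElem?_eq_getElem hl]

theorem toP_bijective : Function.Bijective toP := by
  have := card_Q.1
  exact toP_surjective.bijective_of_nat_card_le (card_Q.2.trans J1.card_and_injective.1.ge)

/-- The surviving case is the group of order `175560`. -/
noncomputable def equivP : Q ≃* J1.P := MulEquiv.ofBijective toP toP_bijective

theorem isSimple_Q : IsSimpleGroup Q := equivP.isSimpleGroup_congr.mpr J1.isSimple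

theorem card_Q_eq : Nat.card Q = 175560 :=
  (Nat.card_congr equivP.toEquiv).trans J1.card_and_injective.1

end CfsgLib.J1Char
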