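import Cfsg.Agent.J1Char.Amalgam
import Cfsg.Agent.J1Char.Pres

/-!
The seven letters in a group with the amalgam satisfy the relators of the amalgam.
-/

set_option autoImplicit false
set_option maxRecDepth 100000
set_option linter.style.haveILetI false
set_option linter.unusedSectionVars false

namespace CfsgLib.J1Char

open CfsgLib.Coset
open CfsgLib.J1Local (M)

universe u

/-- The extra relator of case `k`. -/
def extra (k : Nat) : List Nat :=
  let p := cands.getD k (0, [])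
  List.replicate p.1 5 ++ (p.2 ++ (List.replicate p.1 6 ++ ([1, 3, 2] ++ (List.replicate p.1 5 ++
    ((p.2.map iv).reverse ++ (List.replicate p.1 6 ++ [2, 4, 1]))))))

theorem relsK_eq : ∀ k ∈ List.range 8, relsK k = amRels ++ [extra k] := by decide +kernel

theorem inv_mcand : ∀ k ∈ List.range 8,
    ev LMc (((cands.getD k (0, [])).2.map iv).reverse) = (mcand k)⁻¹ ∧
    (∀ l ∈ (cands.getD k (0, [])).2, l < 5) ∧
    (∀ l ∈ ((cands.getD k (0, [])).2.map iv).reverse, l < 5) := by decide +kernel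

theorem inv_mx : ev LMc [2, 4, 1] = mx⁻¹ := by decide +kernel

theorem model_words : ev LMc [1, 3, 1, 4, 1, 3, 1, 4] = 1 ∧ ev LMc [4, 1, 3, 1, 3, 1, 4] = 1 := by
  decide +kernel

theorem mv_sq : mv * mv = 1 ∧ mw * mw = 1 ∧ mv * mw = mw * mv := by decide +kernel

theorem mc_three : mc 3 = mv * mw ∧ mc 1 = mt * mw := by decide +kernel

theorem prod_three : (mv * mw) * (mw * (mt * mv)) = mt := by decide +kernel

theorem prod_one : mv * (mt * mv) = mt := by decide +kernel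

namespace Amal

variable {G : Type u} [Group G] (E : Amal G)

/-- The seven letters. -/
def letters : List G :=
  [E.phi mt, E.phi mv, E.phi mu, E.phi mz, (E.phi mz)⁻¹, E.s, E.s⁻¹]

theorem len_letters : E.letters.length = 7 := rfl

theorem fl_lt {a : Nat} (ha : a < 5) : fl E.letters a = E.phi (fl LMc a) := by
  interval_cases a <;> simp [fl, letters, LMc]

theorem ev_c : ∀ w : List Nat, (∀ l ∈ w, l < 5) → ev E.letters w = E.phi (ev LMc w)
  | [], _ => by simp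
  | a :: w, h => by
    rw [ev_cons, ev_cons, map_mul, fl_lt E (h a (by simp)), ev_c w fun l hl => h l (by simp [hl])]

theorem ev_five (n : Nat) : ev E.letters (List.replicate n 5) = E.s ^ n := by
  simp [ev, fl, letters]

theorem ev_six (n : Nat) : ev E.letters (List.replicate n 6) = (E.s ^ n)⁻¹ := by
  simp [ev, fl, letters, inv_pow]

theorem s_inv : E.s⁻¹ = E.s ^ 6 := inv_eq_of_mul_eq_one_right (by rw [← pow_succ', E.s_pow])

theorem z_t : E.phi mz * E.phi mt = E.phi mt * E.phi mz := by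
  rw [← map_mul, ← map_mul, z_orbits.2.2.2.2.2.2.1]

theorem s_v : E.s * E.phi mv * E.s⁻¹ = E.phi mw := by
  rw [← z_orbits.1, map_mul, map_mul, map_inv]
  set Z := E.phi mz
  set T := E.phi mt
  have hc : Z * T = T * Z := E.z_t
  calc E.s * E.phi mv * E.s⁻¹ = E.s * (E.s * T * E.s⁻¹) * E.s⁻¹ := by rw [E.s_t]
    _ = (E.s * E.s) * T * (E.s * E.s)⁻¹ := by group
    _ = (Z * E.s * Z⁻¹) * T * (Z * E.s * Z⁻¹)⁻¹ := by rw [E.z_s]
    _ = Z * E.s * (Z⁻¹ * (T * Z)) * E.s⁻¹ * Z⁻¹ := by group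
    _ = Z * E.s * (Z⁻¹ * (Z * T)) * E.s⁻¹ * Z⁻¹ := by rw [hc]
    _ = Z * (E.s * T * E.s⁻¹) * Z⁻¹ := by group
    _ = Z * E.phi mv * Z⁻¹ := by rw [E.s_t]

theorem s2_t : E.s * E.s * E.phi mt * (E.s * E.s)⁻¹ = E.phi mw := by
  rw [← E.s_v, ← E.s_t]; group

theorem s_w : E.s * E.phi mw * E.s⁻¹ = E.phi (mt * mv) := by
  have h4 : E.s * (E.s * E.phi mw * E.s⁻¹) * E.s⁻¹ = E.phi (mv * mw) := by
    rw [← z_orbits.2.1, map_mul E.phi (mz * mw), map_mul, map_inv]
    set Z := E.phi mz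
    set T := E.phi mt
    have hc : Z * T = T * Z := E.z_t
    have h2 : Z * (E.s * E.s) * Z⁻¹ = (E.s * E.s) * (E.s * E.s) := by
      calc Z * (E.s * E.s) * Z⁻¹ = (Z * E.s * Z⁻¹) * (Z * E.s * Z⁻¹) := by group
        _ = _ := by rw [E.z_s]
    calc E.s * (E.s * E.phi mw * E.s⁻¹) * E.s⁻¹
        = E.s * (E.s * (E.s * E.s * T * (E.s * E.s)⁻¹) * E.s⁻¹) * E.s⁻¹ := by rw [E.s2_t]
      _ = (E.s * E.s * (E.s * E.s)) * T * (E.s * E.s * (E.s * E.s))⁻¹ := by group
      _ = (Z * (E.s * E.s) * Z⁻¹) * T * (Z * (E.s * E.s) * Z⁻¹)⁻¹ := by rw [h2]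
      _ = Z * (E.s * E.s) * (Z⁻¹ * (T * Z)) * (E.s * E.s)⁻¹ * Z⁻¹ := by group
      _ = Z * (E.s * E.s) * (Z⁻¹ * (Z * T)) * (E.s * E.s)⁻¹ * Z⁻¹ := by rw [hc]
      _ = Z * (E.s * E.s * T * (E.s * E.s)⁻¹) * Z⁻¹ := by group
      _ = Z * E.phi mw * Z⁻¹ := by rw [E.s2_t]
  have h5 : E.s * E.phi (mt * mv) * E.s⁻¹ = E.phi (mv * mw) := by
    rw [map_mul, map_mul]
    calc E.s * (E.phi mt * E.phi mv) * E.s⁻¹
        = (E.s * E.phi mt * E.s⁻¹) * (E.s * E.phi mv * E.s⁻¹) := by group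
      _ = _ := by rw [E.s_t, E.s_v]
  exact mul_left_cancel (mul_right_cancel (h4.trans h5.symm))

theorem s_one_mc : E.s * E.phi (mc 1) * E.s⁻¹ = E.phi mt := by
  rw [mc_three.2, map_mul]
  calc E.s * (E.phi mt * E.phi mw) * E.s⁻¹
      = (E.s * E.phi mt * E.s⁻¹) * (E.s * E.phi mw * E.s⁻¹) := by group
    _ = E.phi (mv * (mt * mv)) := by rw [E.s_t, E.s_w, ← map_mul]
    _ = _ := by rw [prod_one]

theorem s_three_mt : E.s ^ 3 * E.phi mt * (E.s ^ 3)⁻¹ = E.phi (mt * mv) := by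
  rw [← E.s_w, ← E.s2_t]; simp only [pow_succ, pow_zero, one_mul]; group

theorem s_four_mt : E.s ^ 4 * E.phi mt * (E.s ^ 4)⁻¹ = E.phi (mv * mw) := by
  calc E.s ^ 4 * E.phi mt * (E.s ^ 4)⁻¹ = E.s * (E.s ^ 3 * E.phi mt * (E.s ^ 3)⁻¹) * E.s⁻¹ := by
        group
    _ = (E.s * E.phi mt * E.s⁻¹) * (E.s * E.phi mv * E.s⁻¹) := by rw [E.s_three_mt, map_mul]; group
    _ = _ := by rw [E.s_t, E.s_v, map_mul]

theorem s_three_mc : E.s ^ 3 * E.phi (mc 3) * (E.s ^ 3)⁻¹ = E.phi mt := by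
  have h5 : E.s * E.phi (mv * mw) * E.s⁻¹ = E.phi (mw * (mt * mv)) := by
    rw [map_mul, map_mul E.phi mw]
    calc E.s * (E.phi mv * E.phi mw) * E.s⁻¹
        = (E.s * E.phi mv * E.s⁻¹) * (E.s * E.phi mw * E.s⁻¹) := by group
      _ = _ := by rw [E.s_v, E.s_w]
  rw [mc_three.1]
  calc E.s ^ 3 * E.phi (mv * mw) * (E.s ^ 3)⁻¹
      = (E.s ^ 4 * E.phi mt * (E.s ^ 4)⁻¹) *
        (E.s * (E.s ^ 4 * E.phi mt * (E.s ^ 4)⁻¹) * E.s⁻¹) := by
        rw [map_mul, ← E.s2_t, ← E.s_t]; group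
    _ = E.phi ((mv * mw) * (mw * (mt * mv))) := by rw [E.s_four_mt, h5, ← map_mul]
    _ = _ := by rw [prod_three]

theorem am_rels : ∀ w ∈ amRels, ev E.letters w = 1 := by
  intro w hw
  rcases List.mem_append.1 hw with hw | hw
  · have h5 : ∀ l ∈ w, l < 5 := by revert w; decide
    rw [E.ev_c w h5, of_decide_eq_true (List.all_eq_true.1 model_rels w hw), map_one]
  · simp only [nRels, List.mem_cons, List.not_mem_nil, or_false] at hw
    rcases hw with rfl | rfl | rfl | rfl | rfl | rfl | rfl | rfl | rfl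
    · simp [fl, letters]
    · simp [fl, letters]
    · rw [show ([5, 5, 5, 5, 5, 5, 5] : List Nat) = List.replicate 7 5 from rfl, E.ev_five, E.s_pow]
    · rw [E.ev_c _ (by decide), model_words.1, map_one]
    · rw [E.ev_c _ (by decide), model_words.2, map_one]
    · rw [show ([5, 0, 6, 1] : List Nat) = [5, 0, 6] ++ [1] from rfl, ev_append]
      simp only [ev_cons, ev_nil, mul_one]
      show E.s * (E.phi mt * E.s⁻¹) * E.phi mv = 1
      rw [← mul_assoc, E.s_t, ← map_mul, mv_sq.1, map_one]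
    · rw [show ([5, 1, 6, 3, 1, 4] : List Nat) = [5, 1, 6] ++ [3, 1, 4] from rfl, ev_append]
      simp only [ev_cons, ev_nil, mul_one]
      show E.s * (E.phi mv * E.s⁻¹) * (E.phi mz * (E.phi mv * (E.phi mz)⁻¹)) = 1
      calc _ = (E.s * E.phi mv * E.s⁻¹) * (E.phi mz * E.phi mv * (E.phi mz)⁻¹) := by group
        _ = _ := by
          rw [E.s_v, ← map_inv, ← map_mul, ← map_mul, ← map_mul, z_orbits.1, mv_sq.2.1, map_one]
    · rw [show ([5, 3, 1, 4, 6, 1, 0] : List Nat) = [5, 3, 1, 4, 6] ++ [1, 0] from rfl, ev_append]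
      simp only [ev_cons, ev_nil, mul_one]
      show E.s * (E.phi mz * (E.phi mv * ((E.phi mz)⁻¹ * E.s⁻¹))) * (E.phi mv * E.phi mt) = 1
      have e : E.phi mz * (E.phi mv * ((E.phi mz)⁻¹ * E.s⁻¹)) = E.phi mw * E.s⁻¹ := by
        rw [← z_orbits.1, map_mul, map_mul, map_inv]; group
      rw [e, ← mul_assoc E.s (E.phi mw) E.s⁻¹, E.s_w, map_mul]
      calc E.phi mt * E.phi mv * (E.phi mv * E.phi mt)
          = E.phi mt * (E.phi (mv * mv)) * E.phi mt := by rw [map_mul]; group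
        _ = 1 := by rw [mv_sq.1, map_one, mul_one, ← map_mul, mt_sq.1, map_one]
    · rw [show ([3, 5, 4, 6, 6] : List Nat) = [3, 5, 4] ++ [6, 6] from rfl, ev_append]
      simp only [ev_cons, ev_nil, mul_one]
      show E.phi mz * (E.s * (E.phi mz)⁻¹) * (E.s⁻¹ * E.s⁻¹) = 1
      rw [← mul_assoc (E.phi mz), E.z_s]
      group

theorem rels_of {k : Nat} (hk : k < 8) {i : Nat} (hi : (cands.getD k (0, [])).1 = i)
    (hc : E.s ^ i * E.phi (mcand k) * (E.s ^ i)⁻¹ * E.phi mx =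
      E.phi mx * (E.s ^ i * E.phi (mcand k) * (E.s ^ i)⁻¹)) :
    ∀ w ∈ relsK k, ev E.letters w = 1 := by
  intro w hw
  rw [relsK_eq k (List.mem_range.2 hk), List.mem_append, List.mem_singleton] at hw
  rcases hw with hw | rfl
  · exact E.am_rels w hw
  · obtain ⟨h1, h2, h3⟩ := inv_mcand k (List.mem_range.2 hk)
    simp only [extra, ev_append, hi, E.ev_five, E.ev_six, E.ev_c _ h2, E.ev_c _ h3,
      E.ev_c [1, 3, 2] (by decide), E.ev_c [2, 4, 1] (by decide), mx_eq, inv_mx, h1, map_inv]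
    rw [show ev LMc (cands.getD k (0, [])).2 = mcand k from rfl]
    set y := E.s ^ i * E.phi (mcand k) * (E.s ^ i)⁻¹ with hy
    calc _ = y * E.phi mx * y⁻¹ * (E.phi mx)⁻¹ := by rw [hy]; group
      _ = 1 := by rw [hc]; group

end Amal

end CfsgLib.J1Char
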