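import Cfsg.Agent.J1Local.Cent
import Cfsg.Agent.J1Char.Rels

/-!
Finite facts about the model `C₂ × A₅` of the centraliser.
-/

set_option autoImplicit false
set_option maxRecDepth 100000
set_option synthInstance.maxSize 1024
set_option synthInstance.maxHeartbeats 400000

namespace CfsgLib.J1Char

open CfsgLib.Coset
open CfsgLib.J1Local (M)

/-- The central involution. -/
def mt : M := (Multiplicative.ofAdd 1, 1)

/-- An involution of the four-group. -/
def mv : M := (1, ⟨Equiv.swap 0 1 * Equiv.swap 2 3, Equiv.Perm.mem_alternatingGroup.mpr (by decide)⟩)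

/-- An element of order three normalising the four-group. -/
def mz : M := (1, ⟨Equiv.swap 0 1 * Equiv.swap 1 2, Equiv.Perm.mem_alternatingGroup.mpr (by decide)⟩)

/-- An involution inverting `mz`. -/
def mu : M := (1, ⟨Equiv.swap 0 1 * Equiv.swap 3 4, Equiv.Perm.mem_alternatingGroup.mpr (by decide)⟩)

/-- The letters of the centraliser. -/
def LMc : List M := [mt, mv, mu, mz, mz⁻¹]

/-- An element of order five inverted by `mv`. -/
def mx : M := mv * mz * mu

theorem len_LMc : LMc.length = 5 := rfl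

theorem model_rels : (cRels.all fun w => decide (ev LMc w = 1)) = true := by decide +kernel

theorem mx_eq : ev LMc [1, 3, 2] = mx := by decide +kernel

theorem orderOf_mx : mx ^ 5 = 1 ∧ mx ≠ 1 := by decide +kernel

theorem mv_inverts_mx : mv * mx * mv = mx⁻¹ := by decide +kernel

theorem mt_sq : mt * mt = 1 ∧ mt ≠ 1 := by decide +kernel

/-- The elements of the Sylow 2-subgroup. -/
def Slist : List M :=
  [1, mt, mv, mz * mv * mz⁻¹, mv * (mz * mv * mz⁻¹), mt * mv, mt * (mz * mv * mz⁻¹),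
    mt * (mv * (mz * mv * mz⁻¹))]

theorem five_conj : ∀ a : M, a ^ 5 = 1 → a ≠ 1 →
    ∃ c : M, c * a * c⁻¹ = mx ∨ c * (a * a) * c⁻¹ = mx := by decide +kernel

theorem cent_mx : ∀ a : M, a * mx = mx * a ↔
    a ∈ [1, mx, mx * mx, mx * (mx * mx), mx⁻¹, mt, mt * mx, mt * (mx * mx), mt * (mx * (mx * mx)),
      mt * mx⁻¹] := by decide +kernel

theorem mt_fst : mt.1 ≠ (1 : Multiplicative (ZMod 2)) := by decide +kernel

theorem mt_central : ∀ a : M, a * mt = mt * a := by decide +kernel

theorem center_eq : ∀ a : M, (∀ b ∈ LMc, a * b = b * a) → a = 1 ∨ a = mt := by decide +kernel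

/-- The other four-group involution. -/
def mw : M := mz * mv * mz⁻¹

theorem mem_Slist : ∀ a : M, (mv * a = a * mv ∧ mw * a = a * mw) ↔ a ∈ Slist := by decide +kernel

theorem Slist_nodup : Slist.Nodup := by decide +kernel

theorem Slist_comm : ∀ a ∈ Slist, ∀ b ∈ Slist, a * b = b * a := by decide +kernel

theorem Slist_sq : ∀ a ∈ Slist, a * a = 1 := by decide +kernel

theorem card_normalizer_S : (Finset.univ.filter fun c : M =>
    Slist.all (fun a => Slist.contains (c * a * c⁻¹))).card = 24 := by decide +kernel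

theorem fst_conj : ∀ a c : M, (a * c * a⁻¹ * c⁻¹).1 = 1 := by decide +kernel

theorem z_orbits : mz * mv * mz⁻¹ = mw ∧ mz * mw * mz⁻¹ = mv * mw ∧ mz * (mv * mw) * mz⁻¹ = mv ∧
    mz * (mt * mv) * mz⁻¹ = mt * mw ∧ mz * (mt * mw) * mz⁻¹ = mt * (mv * mw) ∧
    mz * (mt * (mv * mw)) * mz⁻¹ = mt * mv ∧ mz * mt = mt * mz ∧ mz ^ 3 = 1 := by decide +kernel

theorem z_S : ∀ a ∈ Slist, mz * a * mz⁻¹ ∈ Slist := by decide +kernel

theorem z_moves_v : mz * mv * mz⁻¹ ≠ mv := by decide +kernel

/-- The automorphism interchanging `mz` and its inverse. -/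
def flip : M ≃* M where
  toFun a := (a.1, ⟨Equiv.swap 0 1 * a.2.1 * Equiv.swap 0 1, by
    have := a.2.2; rw [Equiv.Perm.mem_alternatingGroup] at this ⊢
    simp [map_mul, this]⟩)
  invFun a := (a.1, ⟨Equiv.swap 0 1 * a.2.1 * Equiv.swap 0 1, by
    have := a.2.2; rw [Equiv.Perm.mem_alternatingGroup] at this ⊢
    simp [map_mul, this]⟩)
  left_inv a := by ext <;> simp [mul_assoc]
  right_inv a := by ext <;> simp [mul_assoc]
  map_mul' a b := by ext <;> simp [mul_assoc]

theorem flip_values : flip mt = mt ∧ flip mv = mv ∧ flip mz = mz⁻¹ := by decide +kernel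

theorem not_dvd_seven : ∀ a : M, a ^ 7 = 1 → a = 1 := by decide +kernel

/-- The candidate of case `k`. -/
def mcand (k : Nat) : M := ev LMc ((cands.getD k (0, [])).2)

/-- The transported involution. -/
def mc (k : Nat) : M := if k = 1 then mt * (mz * mv * mz⁻¹) else mz⁻¹ * mv * mz

theorem cand_spec : ∀ a : M, a ^ 15 = 1 → a ≠ 1 → ∀ i ∈ [1, 3], mc i * a * mc i = a⁻¹ →
    ∃ k ∈ List.range 8, (cands.getD k (0, [])).1 = i ∧ ∃ j ∈ List.range 15, a ^ j = mcand k := by
  decide +kernel

end CfsgLib.J1Char
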